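import Groth.Agent.LC.AdjDepth
import Groth.Agent.LC.Finiteness
import Groth.Agent.FlatLoc6.NormFlat
import Mathlib.RingTheory.KrullDimension.Regular

/-!
# Dimension and depth near the generic point of an irreducible closed subset

For a finite module `M` over a Noetherian ring and a prime `p`, on a neighbourhood of `p` in `V(p)`
the dimension and the depth of `M_q` are those of `M_p` shifted by those of `(A / p)_q`.
-/

set_option autoImplicit false
set_option linter.style.haveILetI false

namespace Groth.Agent.H1GenDepth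

universe u

open IsLocalRing

/-- The dimension of the support of an extension. -/
theorem supportDim_of_exact {R : Type u} [CommRing R] {X Y Z : Type u} [AddCommGroup X] [Module R X]
    [AddCommGroup Y] [Module R Y] [AddCommGroup Z] [Module R Z]
    (f : X →ₗ[R] Y) (g : Y →ₗ[R] Z) (hf : Function.Injective f) (hfg : Function.Exact f g)
    (hg : Function.Surjective g) :
    Module.supportDim R Y = max (Module.supportDim R X) (Module.supportDim R Z) := by
  refine le_antisymm (iSup_le fun l => ?_) (max_le (Module.supportDim_le_of_injective f hf)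
    (Module.supportDim_le_of_surjective g hg))
  have h0 : (l 0).1 ∈ Module.support R X ∪ Module.support R Z :=
    Module.support_of_exact hfg hf hg ▸ (l 0).2
  rcases h0 with h0 | h0
  · refine le_max_of_le_left ?_
    let l' : LTSeries (Module.support R X) :=
      ⟨l.length, fun i => ⟨(l i).1, Module.mem_support_mono (l.monotone (Fin.zero_le i)) h0⟩, fun i => l.step i⟩
    exact le_iSup (fun m : LTSeries (Module.support R X) => ((m.length : ℕ∞) : WithBot ℕ∞)) l'
  · refine le_max_of_le_right ?_
    let l' : LTSeries (Module.support R Z) :=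
      ⟨l.length, fun i => ⟨(l i).1, Module.mem_support_mono (l.monotone (Fin.zero_le i)) h0⟩, fun i => l.step i⟩
    exact le_iSup (fun m : LTSeries (Module.support R Z) => ((m.length : ℕ∞) : WithBot ℕ∞)) l'

variable {A : Type u} [CommRing A]

/-- The dimension of `M_q`. -/
noncomputable abbrev dimAt (q : Ideal A) [q.IsPrime] (M : Type u) [AddCommGroup M] [Module A M] : WithBot ℕ∞ :=
  Module.supportDim (Localization.AtPrime q) (LocalizedModule q.primeCompl M)

/-- The depth of `M_q`. -/
noncomputable abbrev depAt (q : Ideal A) [q.IsPrime] (M : Type u) [AddCommGroup M] [Module A M] : ℕ∞ :=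
  LocCoh.depth (Localization.AtPrime q) (LocalizedModule q.primeCompl M)

instance finite_localized (q : Ideal A) [q.IsPrime] (M : Type u) [AddCommGroup M] [Module A M] [Module.Finite A M] :
    Module.Finite (Localization.AtPrime q) (LocalizedModule q.primeCompl M) :=
  Module.Finite.of_isLocalizedModule q.primeCompl (LocalizedModule.mkLinearMap _ M)

theorem exists_kill (p : Ideal A) [p.IsPrime] (M : Type u) [AddCommGroup M] [Module A M] [Module.Finite A M]
    (h : Subsingleton (LocalizedModule p.primeCompl M)) :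
    ∃ f ∉ p, ∀ (q : Ideal A) [q.IsPrime], f ∉ q → Subsingleton (LocalizedModule q.primeCompl M) := by
  have h1 : (⟨p, inferInstance⟩ : PrimeSpectrum A) ∉ Module.support A M := Module.notMem_support_iff.2 h
  rw [Module.mem_support_iff_of_finite] at h1
  obtain ⟨f, hf, hfp⟩ := SetLike.not_le_iff_exists.1 h1
  refine ⟨f, hfp, fun q _ hfq => ?_⟩
  refine (Module.notMem_support_iff (p := ⟨q, inferInstance⟩)).1 fun hq => hfq ?_
  exact Module.mem_support_iff_of_finite.1 hq hf

theorem dimAt_bot (q : Ideal A) [q.IsPrime] (M : Type u) [AddCommGroup M] [Module A M]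
    [Subsingleton (LocalizedModule q.primeCompl M)] : dimAt q M = ⊥ :=
  Module.supportDim_eq_bot_of_subsingleton _ _

variable [IsNoetherianRing A]

theorem depAt_top (q : Ideal A) [q.IsPrime] (M : Type u) [AddCommGroup M] [Module A M]
    [Subsingleton (LocalizedModule q.primeCompl M)] : depAt q M = ⊤ :=
  FlatLoc6.depth_top_of_subsingleton _

section Exact

variable {X Y Z : Type u} [AddCommGroup X] [Module A X] [AddCommGroup Y] [Module A Y] [AddCommGroup Z] [Module A Z]
  [Module.Finite A X] [Module.Finite A Y] [Module.Finite A Z]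
  (f : X →ₗ[A] Y) (g : Y →ₗ[A] Z) (hf : Function.Injective f) (hfg : Function.Exact f g)
  (hg : Function.Surjective g) (q : Ideal A) [q.IsPrime]

include hf hfg hg

theorem dimAt_exact : dimAt q Y = max (dimAt q X) (dimAt q Z) :=
  supportDim_of_exact (LocalizedModule.map q.primeCompl f) (LocalizedModule.map q.primeCompl g)
    (LocalizedModule.map_injective _ f hf) (LocalizedModule.map_exact _ f g hfg)
    (LocalizedModule.map_surjective _ g hg)

theorem depAt_exact_of_le (h : depAt q X ≤ depAt q Z) : depAt q Y = depAt q X :=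
  FlatLoc6.depth_extension (LocalizedModule.map q.primeCompl f) (LocalizedModule.map q.primeCompl g)
    (LocalizedModule.map_injective _ f hf) (LocalizedModule.map_exact _ f g hfg)
    (LocalizedModule.map_surjective _ g hg) rfl h

theorem depAt_exact_of_left_zero [Subsingleton (LocalizedModule q.primeCompl X)] : depAt q Y = depAt q Z := by
  refine LC.depth_localized_congr Y q (LinearEquiv.ofBijective (LocalizedModule.map q.primeCompl g) ⟨?_,
    LocalizedModule.map_surjective _ g hg⟩)
  rw [injective_iff_map_eq_zero]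
  intro y hy
  obtain ⟨x, rfl⟩ := (LocalizedModule.map_exact q.primeCompl f g hfg y).1 hy
  rw [Subsingleton.elim x 0, map_zero]

theorem subsingleton_exact [Subsingleton (LocalizedModule q.primeCompl X)]
    [Subsingleton (LocalizedModule q.primeCompl Z)] : Subsingleton (LocalizedModule q.primeCompl Y) :=
  subsingleton_of_forall_eq 0 fun y => by
    obtain ⟨x, rfl⟩ := (LocalizedModule.map_exact q.primeCompl f g hfg y).1 (Subsingleton.elim _ _)
    rw [Subsingleton.elim x 0, map_zero]

theorem subsingleton_ends [Subsingleton (LocalizedModule q.primeCompl Y)] :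
    Subsingleton (LocalizedModule q.primeCompl X) ∧ Subsingleton (LocalizedModule q.primeCompl Z) :=
  ⟨(LocalizedModule.map_injective q.primeCompl f hf).subsingleton,
    (LocalizedModule.map_surjective q.primeCompl g hg).subsingleton⟩

end Exact

variable (p : Ideal A) [p.IsPrime]

/-- Modules supported on `V(p)` look like `A / p` near `p`. -/
theorem exists_near_of_supported (N : Type u) [AddCommGroup N] [Module A N] [Module.Finite A N] :
    p ≤ (Module.annihilator A N).radical →
    ∃ f ∉ p, ∀ (q : Ideal A) [q.IsPrime], p ≤ q → f ∉ q →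
      (¬ Subsingleton (LocalizedModule p.primeCompl N) →
        dimAt q N = dimAt q (A ⧸ p) ∧ depAt q N = depAt q (A ⧸ p)) ∧
      (Subsingleton (LocalizedModule p.primeCompl N) → Subsingleton (LocalizedModule q.primeCompl N)) := by
  induction ‹Module.Finite A N› using IsNoetherianRing.induction_on_isQuotientEquivQuotientPrime with
  | subsingleton N =>
    intro _
    exact ⟨1, p.one_notMem, fun q _ _ _ => ⟨fun h => (h inferInstance).elim, fun _ => inferInstance⟩⟩
  | quotient N P e =>
    intro hN
    rw [e.annihilator_eq, Ideal.annihilator_quotient, P.2.radical] at hN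
    by_cases hP : P.asIdeal = p
    · refine ⟨1, p.one_notMem, fun q _ _ _ => ?_⟩
      have e' : N ≃ₗ[A] A ⧸ p := e.trans (Submodule.quotEquivOfEq _ _ hP)
      let F := IsLocalizedModule.mapEquiv q.primeCompl (LocalizedModule.mkLinearMap q.primeCompl N)
        (LocalizedModule.mkLinearMap q.primeCompl (A ⧸ p)) (Localization.AtPrime q) e'
      refine ⟨fun _ => ⟨Module.supportDim_eq_of_equiv F, LC.depth_localized_congr N q F⟩, fun h => ?_⟩
      exfalso
      have h2 : (⟨p, inferInstance⟩ : PrimeSpectrum A) ∉ Module.support A N := Module.notMem_support_iff.2 h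
      apply h2
      rw [Module.mem_support_iff_of_finite, e'.annihilator_eq, Ideal.annihilator_quotient]
    · obtain ⟨f, hf, hfp⟩ := SetLike.not_le_iff_exists.1 fun h => hP (le_antisymm h hN)
      refine ⟨f, hfp, fun q _ hpq hfq => ?_⟩
      have hq : ∀ (r : Ideal A) [r.IsPrime], f ∉ r → Subsingleton (LocalizedModule r.primeCompl N) := fun r _ hr =>
        (Module.notMem_support_iff (p := ⟨r, inferInstance⟩)).1 fun hmem => hr (by
          have := Module.mem_support_iff_of_finite.1 hmem
          rw [e.annihilator_eq, Ideal.annihilator_quotient] at this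
          exact this hf)
      exact ⟨fun h => absurd (hq p hfp) h, fun _ => hq q hfq⟩
  | exact X Y Z i j hi hj hij hX hZ =>
    intro hN
    obtain ⟨f1, hf1, H1⟩ := hX (hN.trans (Ideal.radical_mono (LinearMap.annihilator_le_of_injective i hi)))
    obtain ⟨f2, hf2, H2⟩ := hZ (hN.trans (Ideal.radical_mono (LinearMap.annihilator_le_of_surjective j hj)))
    refine ⟨f1 * f2, p.primeCompl.mul_mem hf1 hf2, fun q _ hpq hfq => ?_⟩
    obtain ⟨a1, b1⟩ := H1 q hpq fun h => hfq (q.mul_mem_right _ h)
    obtain ⟨a2, b2⟩ := H2 q hpq fun h => hfq (q.mul_mem_left _ h)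
    refine ⟨fun hY => ?_, fun hY => ?_⟩
    · by_cases hXp : Subsingleton (LocalizedModule p.primeCompl X)
      · have hZp : ¬ Subsingleton (LocalizedModule p.primeCompl Z) := fun h =>
          hY (subsingleton_exact i j hi hij hj p)
        haveI := b1 hXp
        rw [dimAt_exact i j hi hij hj q, depAt_exact_of_left_zero i j hi hij hj q, dimAt_bot q X,
          max_eq_right bot_le]
        exact a2 hZp
      · obtain ⟨d1, e1⟩ := a1 hXp
        have h2 : dimAt q Z ≤ dimAt q X ∧ depAt q X ≤ depAt q Z := by
          by_cases hZp : Subsingleton (LocalizedModule p.primeCompl Z)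
          · haveI := b2 hZp
            rw [dimAt_bot q Z, depAt_top q Z]
            exact ⟨bot_le, le_top⟩
          · rw [(a2 hZp).1, (a2 hZp).2, d1, e1]
            exact ⟨le_rfl, le_rfl⟩
        rw [dimAt_exact i j hi hij hj q, depAt_exact_of_le i j hi hij hj q h2.2, max_eq_left h2.1]
        exact ⟨d1, e1⟩
    · obtain ⟨hXp, hZp⟩ := subsingleton_ends i j hi hij hj p
      haveI := b1 hXp
      haveI := b2 hZp
      exact subsingleton_exact i j hi hij hj q

/-- `dimAt` and `depAt` of `M` are shifts of those of `A / p`. -/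
def Good (M : Type u) [AddCommGroup M] [Module A M] : Prop :=
  ∃ (a : WithBot ℕ∞) (b : ℕ∞) (f : A), f ∉ p ∧ ∀ (q : Ideal A) [q.IsPrime], p ≤ q → f ∉ q →
    dimAt q M = a + dimAt q (A ⧸ p) ∧ depAt q M = b + depAt q (A ⧸ p)

theorem good_of_subsingleton (M : Type u) [AddCommGroup M] [Module A M] [Module.Finite A M]
    (h : Subsingleton (LocalizedModule p.primeCompl M)) : Good p M := by
  obtain ⟨f, hf, hq⟩ := exists_kill p M h
  refine ⟨⊥, ⊤, f, hf, fun q _ _ hfq => ?_⟩
  haveI := hq q hfq
  rw [dimAt_bot, depAt_top, WithBot.bot_add, top_add]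
  exact ⟨rfl, rfl⟩

theorem dimAt_quotSMulTop_add_one (q : Ideal A) [q.IsPrime] (M : Type u) [AddCommGroup M] [Module A M]
    [Module.Finite A M] {x : A} (hx : x ∈ q) (hreg : IsSMulRegular M x) :
    dimAt q (QuotSMulTop x M) + 1 = dimAt q M := by
  obtain ⟨e⟩ := LC.exists_localized_quotSMulTop M q x
  rw [dimAt, ← Module.supportDim_eq_of_equiv e]
  exact Module.supportDim_quotSMulTop_succ_eq_supportDim (Alg6.isSMulRegular_localized q hreg)
    ((Alg6.mem_maximalIdeal_iff q).2 hx)

theorem good_of_lt : ∀ (n : ℕ) (M : Type u) [AddCommGroup M] [Module A M] [Module.Finite A M],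
    dimAt p M < n → Good p M := by
  intro n
  induction n with
  | zero =>
    intro M _ _ _ h
    refine good_of_subsingleton p M ((Module.supportDim_eq_bot_iff_subsingleton (Localization.AtPrime p) _).1 ?_)
    by_contra hne
    obtain ⟨v, hv⟩ := WithBot.ne_bot_iff_exists.1 hne
    rw [dimAt, ← hv, Nat.cast_zero, ← WithBot.coe_zero, WithBot.coe_lt_coe] at h
    exact absurd h (not_lt.2 zero_le)
  | succ n ih =>
    intro M _ _ _ h
    let N := DRing.torsionSub p M
    have hQ : Good p (M ⧸ N) := by
      obtain ⟨x, hxp, hx⟩ := LC.exists_regular_of_torsionFree p (M ⧸ N) (LC.torsionSub_quot_eq_bot p M)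
      have hle : dimAt p (M ⧸ N) ≤ dimAt p M := by
        rw [dimAt_exact N.subtype N.mkQ N.subtype_injective (LinearMap.exact_subtype_mkQ N) N.mkQ_surjective p]
        exact le_max_right _ _
      have hlt : dimAt p (QuotSMulTop x (M ⧸ N)) < n := by
        by_contra hcon
        have h1 : ((n : WithBot ℕ∞) + 1) ≤ dimAt p M :=
          (add_le_add (not_lt.1 hcon) le_rfl).trans ((dimAt_quotSMulTop_add_one p _ hxp hx).trans_le hle)
        exact absurd h (not_lt.2 (by push_cast; exact h1))
      obtain ⟨a, b, f, hf, H⟩ := ih (QuotSMulTop x (M ⧸ N)) hlt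
      refine ⟨a + 1, b + 1, f, hf, fun q _ hpq hfq => ?_⟩
      obtain ⟨h1, h2⟩ := H q hpq hfq
      refine ⟨?_, ?_⟩
      · rw [← dimAt_quotSMulTop_add_one q _ (hpq hxp) hx, h1, add_right_comm]
      · rw [depAt, ← LC.depth_localized_quot_add_one _ q (hpq hxp) hx, ← depAt, h2, add_right_comm]
    obtain ⟨a, b, f, hf, H⟩ := hQ
    obtain ⟨k, hk⟩ := LC.exists_pow_smul_eq_zero_of_finite p N
      (fun z => by obtain ⟨m, hm⟩ := z.2; exact ⟨m, fun c hc => Subtype.ext (hm c hc)⟩)
    obtain ⟨f', hf', H'⟩ := exists_near_of_supported p N fun c hc =>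
      ⟨k, Module.mem_annihilator.2 fun z => hk _ (Ideal.pow_mem_pow hc k) z⟩
    by_cases hN : Subsingleton (LocalizedModule p.primeCompl N)
    · refine ⟨a, b, f * f', p.primeCompl.mul_mem hf hf', fun q _ hpq hfq => ?_⟩
      haveI := (H' q hpq fun hh => hfq (q.mul_mem_left _ hh)).2 hN
      rw [dimAt_exact N.subtype N.mkQ N.subtype_injective (LinearMap.exact_subtype_mkQ N) N.mkQ_surjective q,
        depAt_exact_of_left_zero N.subtype N.mkQ N.subtype_injective (LinearMap.exact_subtype_mkQ N)
          N.mkQ_surjective q, dimAt_bot q N, max_eq_right bot_le]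
      exact H q hpq fun hh => hfq (q.mul_mem_right _ hh)
    · refine ⟨max 0 a, 0, f * f', p.primeCompl.mul_mem hf hf', fun q _ hpq hfq => ?_⟩
      obtain ⟨d1, e1⟩ := (H' q hpq fun hh => hfq (q.mul_mem_left _ hh)).1 hN
      obtain ⟨h1, h2⟩ := H q hpq fun hh => hfq (q.mul_mem_right _ hh)
      rw [dimAt_exact N.subtype N.mkQ N.subtype_injective (LinearMap.exact_subtype_mkQ N) N.mkQ_surjective q,
        depAt_exact_of_le N.subtype N.mkQ N.subtype_injective (LinearMap.exact_subtype_mkQ N)
          N.mkQ_surjective q (by rw [e1, h2]; exact le_add_self), d1, e1, h1, zero_add]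
      exact ⟨by rw [← max_add_add_right, zero_add], rfl⟩

theorem good (M : Type u) [AddCommGroup M] [Module A M] [Module.Finite A M] : Good p M := by
  have hfin : ringKrullDim (Localization.AtPrime p) < ⊤ := ringKrullDim_lt_top
  have h : dimAt p M < ⊤ := (Module.supportDim_le_ringKrullDim _ _).trans_lt hfin
  by_cases hb : dimAt p M = ⊥
  · exact good_of_subsingleton p M ((Module.supportDim_eq_bot_iff_subsingleton _ _).1 hb)
  obtain ⟨v, hv⟩ := WithBot.ne_bot_iff_exists.1 hb
  rw [← hv, ← WithBot.coe_top, WithBot.coe_lt_coe] at h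
  obtain ⟨n, rfl⟩ := ENat.ne_top_iff_exists.1 h.ne
  refine good_of_lt p (n + 1) M ?_
  rw [← hv]
  exact_mod_cast n.lt_succ_self

theorem dimAt_self : dimAt p (A ⧸ p) = 0 ∧ depAt p (A ⧸ p) = 0 := by
  have hne : ¬ Subsingleton (LocalizedModule p.primeCompl (A ⧸ p)) := fun h => by
    have h2 : (⟨p, inferInstance⟩ : PrimeSpectrum A) ∉ Module.support A (A ⧸ p) := Module.notMem_support_iff.2 h
    rw [Module.mem_support_iff_of_finite, Ideal.annihilator_quotient] at h2
    exact h2 le_rfl
  haveI : Nontrivial (LocalizedModule p.primeCompl (A ⧸ p)) := not_subsingleton_iff_nontrivial.1 hne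
  refine ⟨le_antisymm ?_ ?_, ?_⟩
  · refine iSup_le fun l => ?_
    have hs : ∀ z ∈ Module.support (Localization.AtPrime p) (LocalizedModule p.primeCompl (A ⧸ p)),
        z.asIdeal = maximalIdeal (Localization.AtPrime p) := by
      intro z hz
      refine le_antisymm (le_maximalIdeal z.2.ne_top) ?_
      rw [← Localization.AtPrime.map_eq_maximalIdeal, Ideal.map_le_iff_le_comap]
      intro c hc
      refine Module.mem_support_iff_of_finite.1 hz (Module.mem_annihilator.2 fun m => ?_)
      induction m using LocalizedModule.induction_on with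
      | h m s =>
        rw [algebraMap_smul, LocalizedModule.smul'_mk]
        obtain ⟨m, rfl⟩ := Ideal.Quotient.mk_surjective m
        rw [show c • (Ideal.Quotient.mk p m) = 0 from
          Ideal.Quotient.eq_zero_iff_mem.2 (p.mul_mem_right _ hc), LocalizedModule.zero_mk]
    rcases Nat.eq_zero_or_pos l.length with h0 | h0
    · rw [h0]; rfl
    · exfalso
      have := l.step ⟨0, h0⟩
      exact absurd ((PrimeSpectrum.ext ((hs _ (l.toFun _).2).trans (hs _ (l.toFun _).2).symm)) : (l.toFun (Fin.castSucc ⟨0, h0⟩)).1 = (l.toFun (Fin.succ ⟨0, h0⟩)).1) (ne_of_lt this)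
  · obtain ⟨v, hv⟩ := WithBot.ne_bot_iff_exists.1
      (Module.supportDim_ne_bot_of_nontrivial (Localization.AtPrime p) (LocalizedModule p.primeCompl (A ⧸ p)))
    rw [dimAt, ← hv, ← WithBot.coe_zero]
    exact WithBot.coe_le_coe.2 zero_le
  · refine le_antisymm (not_lt.1 fun h => ?_) zero_le
    refine (Alg6.one_le_depth_atPrime_iff (M := A ⧸ p) p).1 (Order.one_le_iff_pos.2 h) ?_
    rw [associatedPrimes.eq_singleton_of_isPrimary (Ideal.IsPrime.isPrimary ‹_›), Ideal.IsPrime.radical ‹_›]
    rfl

/-- `A_q / J A_q` is the localization of `A / J`. -/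
theorem exists_equiv_quot (J : Ideal A) (q : Ideal A) [q.IsPrime] :
    Nonempty (LocalizedModule q.primeCompl (A ⧸ J) ≃ₗ[Localization.AtPrime q]
      Localization.AtPrime q ⧸ J.map (algebraMap A (Localization.AtPrime q))) := by
  haveI := IsLocalizedModule.toLocalizedQuotient' (S := Localization.AtPrime q) q.primeCompl
    (Algebra.linearMap A (Localization.AtPrime q)) J
  exact ⟨((IsLocalizedModule.linearEquiv q.primeCompl (LocalizedModule.mkLinearMap q.primeCompl (A ⧸ J))
    (J.toLocalizedQuotient' (Localization.AtPrime q) q.primeCompl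
      (Algebra.linearMap A (Localization.AtPrime q)))).extendScalarsOfIsLocalization q.primeCompl _).trans
    (Submodule.quotEquivOfEq _ _ (Ideal.localized'_eq_map _ q.primeCompl J))⟩

/-- Near the generic point of `V(I)` dimension and depth add up. -/
theorem exists_add (M : Type u) [AddCommGroup M] [Module A M] [Module.Finite A M] (I : Ideal A)
    (hI : I.radical = p) :
    ∃ f ∉ p, ∀ (q : Ideal A) [q.IsPrime], I ≤ q → f ∉ q →
      dimAt q M = dimAt p M + dimAt q (A ⧸ I) ∧ depAt q M = depAt p M + depAt q (A ⧸ I) := by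
  obtain ⟨a, b, f, hf, H⟩ := good p M
  obtain ⟨f', hf', H'⟩ := exists_near_of_supported p (A ⧸ I) (by rw [Ideal.annihilator_quotient, hI])
  have hne : ¬ Subsingleton (LocalizedModule p.primeCompl (A ⧸ I)) := fun h => by
    have h2 : (⟨p, inferInstance⟩ : PrimeSpectrum A) ∉ Module.support A (A ⧸ I) := Module.notMem_support_iff.2 h
    rw [Module.mem_support_iff_of_finite, Ideal.annihilator_quotient] at h2
    exact h2 (Ideal.le_radical.trans hI.le)
  refine ⟨f * f', p.primeCompl.mul_mem hf hf', fun q _ hIq hfq => ?_⟩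
  have hpq : p ≤ q := hI ▸ (Ideal.IsPrime.radical_le_iff ‹_›).2 hIq
  obtain ⟨h1, h2⟩ := H q hpq fun hh => hfq (q.mul_mem_right _ hh)
  obtain ⟨d1, e1⟩ := (H' q hpq fun hh => hfq (q.mul_mem_left _ hh)).1 hne
  obtain ⟨g1, g2⟩ := H p le_rfl hf
  rw [(dimAt_self p).1, add_zero] at g1
  rw [(dimAt_self p).2, add_zero] at g2
  rw [h1, h2, d1, e1, g1, g2]
  exact ⟨rfl, rfl⟩

end Groth.Agent.H1GenDepth
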